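import Cfsg.Agent.Helper19.Unip.Gen
import Cfsg.Agent.Helper67.UnipU1
import Cfsg.Agent.Helper50.UnipU345

/-!
# The identity `Σ_J (-1)^|J| [Γ : P_J] · #unip(P_J) = |U|` for a split (B,N)-pair
-/

set_option autoImplicit false

namespace Cfsg.Agent.Helper19.Unip

open Cfsg Cfsg.Agent.Helper6 Cfsg.Agent.Helper19.Stein

/-- an element of `p`-power order -/
def IsPElt (p : ℕ) {Γ : Type*} [Monoid Γ] (g : Γ) : Prop := ∃ k : ℕ, orderOf g = p ^ k

theorem isPElt_conj {p : ℕ} {Γ : Type*} [Group Γ] (g x : Γ) :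
    IsPElt p (x * g * x⁻¹) ↔ IsPElt p g := by
  unfold IsPElt
  have h : SemiconjBy x g (x * g * x⁻¹) := by
    unfold SemiconjBy; group
  rw [h.orderOf_eq]

theorem isPElt_of_mem {p : ℕ} [Fact p.Prime] {Γ : Type*} [Group Γ] {U : Subgroup Γ}
    (hU : IsPGroup p U) {g : Γ} (hg : g ∈ U) : IsPElt p g := by
  obtain ⟨k, hk⟩ := (IsPGroup.iff_orderOf.mp hU) ⟨g, hg⟩
  exact ⟨k, by rw [← hk, Subgroup.orderOf_mk]⟩

theorem card_fixedBy_conj {Γ α : Type*} [Group Γ] [MulAction Γ α] (g x : Γ) :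
    Nat.card (MulAction.fixedBy α (x * g * x⁻¹)) = Nat.card (MulAction.fixedBy α g) := by
  rw [← MulAction.smul_fixedBy]
  exact (Nat.card_congr (Equiv.Set.image (fun a => x • a) _ (MulAction.injective x))).symm

section Full

variable {Γ : Type*} [Group Γ] (P' : Cfsg.BNPair Γ) [Fintype P'.S]

/-- the alternating sum of the parabolic permutation characters -/
noncomputable def stFun (g : Γ) : ℂ :=
  ∑ J ∈ (Finset.univ : Finset P'.S).powerset, (-1 : ℂ) ^ J.card *
    (Nat.card (MulAction.fixedBy (Γ ⧸ P'.parabolic (Subtype.val '' (↑J : Set P'.S))) g) : ℂ)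

theorem stFun_conj (g x : Γ) : stFun P' (x * g * x⁻¹) = stFun P' g := by
  unfold stFun
  apply Finset.sum_congr rfl
  intro J _
  rw [card_fixedBy_conj]

variable [Finite Γ] (p : ℕ) [Fact p.Prime]
  (U' O B₀ : Subgroup Γ)
  (hU'B : U' ≤ P'.B) (hU'p : IsPGroup p U') (hU'all : ∀ b ∈ P'.B, IsPElt p b → b ∈ U')
  (hO : O ≤ U') (hOn : O.Normal)
  (n₀ : Γ) (hn₀ : n₀ ∈ P'.N) (hmax : MaxR (wf P') (mkW P' n₀ hn₀))
  (hB₀ : ∀ u ∈ P'.B, n₀⁻¹ * u * n₀ ∈ P'.B ↔ u ∈ B₀)
  (hB₀U : ∀ u ∈ U', u ∈ B₀ ↔ u ∈ O)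

include hU'B hU'p hU'all hOn hmax hB₀ hB₀U in
open Classical in
/-- the value of the alternating sum on `U` -/
theorem stFun_of_mem (u : Γ) (hu : u ∈ U') :
    stFun P' u = if u ∈ O then ((B₀.subgroupOf P'.B).index : ℂ) else 0 := by
  have h1 := alt_sum_fixedBy_eq P' n₀ hn₀ hmax B₀ hB₀ ⟨u, hU'B hu⟩
  unfold stFun
  rw [h1]
  have key : ∀ c : P'.B, ((⟨u, hU'B hu⟩ : P'.B) • (QuotientGroup.mk c : ↥P'.B ⧸ B₀.subgroupOf P'.B) =
      QuotientGroup.mk c) ↔ u ∈ O := by
    intro c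
    have e1 : (⟨u, hU'B hu⟩ : P'.B) • (QuotientGroup.mk c : ↥P'.B ⧸ B₀.subgroupOf P'.B) =
        QuotientGroup.mk (⟨u, hU'B hu⟩ * c) := rfl
    rw [e1, QuotientGroup.eq, Subgroup.mem_subgroupOf]
    have e2 : (((⟨u, hU'B hu⟩ * c)⁻¹ * c : P'.B) : Γ) = ((c : Γ)⁻¹ * u * c)⁻¹ := by
      push_cast
      group
    rw [e2, inv_mem_iff]
    have hv : (c : Γ)⁻¹ * u * c ∈ U' := by
      apply hU'all
      · exact P'.B.mul_mem (P'.B.mul_mem (P'.B.inv_mem c.2) (hU'B hu)) c.2
      · have := (isPElt_conj (p := p) u (c : Γ)⁻¹).mpr (isPElt_of_mem hU'p hu)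
        rwa [inv_inv] at this
    rw [hB₀U _ hv]
    constructor
    · intro h
      have := hOn.conj_mem _ h (c : Γ)
      have e3 : (c : Γ) * ((c : Γ)⁻¹ * u * c) * (c : Γ)⁻¹ = u := by group
      rwa [e3] at this
    · intro h
      have := hOn.conj_mem _ h (c : Γ)⁻¹
      rwa [inv_inv] at this
  by_cases huO : u ∈ O
  · rw [if_pos huO]
    have : MulAction.fixedBy (↥P'.B ⧸ B₀.subgroupOf P'.B) (⟨u, hU'B hu⟩ : P'.B) = Set.univ := by
      ext y
      induction y using QuotientGroup.induction_on with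
      | H c => simp only [MulAction.mem_fixedBy, Set.mem_univ, iff_true]; exact (key c).mpr huO
    rw [this, Nat.card_congr (Equiv.Set.univ _), ← Subgroup.index_eq_card]
  · rw [if_neg huO]
    have : MulAction.fixedBy (↥P'.B ⧸ B₀.subgroupOf P'.B) (⟨u, hU'B hu⟩ : P'.B) = ∅ := by
      ext y
      induction y using QuotientGroup.induction_on with
      | H c =>
        simp only [MulAction.mem_fixedBy, Set.mem_empty_iff_false, iff_false]
        exact fun h => huO ((key c).mp h)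
    rw [this]
    simp

include hU'B hU'p hU'all hO hOn hmax hB₀ hB₀U in
open Classical in
/-- the identity `Σ_J (-1)^|J| [Γ : P_J] · #unip(P_J) = |U|` -/
theorem full_identity (hidx : ¬ p ∣ U'.index)
    (hcard : Nat.card U' = (B₀.subgroupOf P'.B).index * Nat.card O) :
    ∑ J ∈ (Finset.univ : Finset P'.S).powerset, (-1 : ℂ) ^ J.card *
      (((P'.parabolic (Subtype.val '' (↑J : Set P'.S))).index : ℂ) *
        (Nat.card {d : ↥(P'.parabolic (Subtype.val '' (↑J : Set P'.S))) // IsPElt p (d : Γ)} : ℂ)) =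
      (Nat.card U' : ℂ) := by
  have : Fintype Γ := Fintype.ofFinite Γ
  -- the sum of `stFun` over the `p`-elements, computed in two ways
  have hA : ∑ g : Γ, (if IsPElt p g then stFun P' g else 0) =
      ∑ J ∈ (Finset.univ : Finset P'.S).powerset, (-1 : ℂ) ^ J.card *
      (((P'.parabolic (Subtype.val '' (↑J : Set P'.S))).index : ℂ) *
        (Nat.card {d : ↥(P'.parabolic (Subtype.val '' (↑J : Set P'.S))) // IsPElt p (d : Γ)} : ℂ)) := by
    have h1 : ∀ g : Γ, (if IsPElt p g then stFun P' g else 0) =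
        ∑ J ∈ (Finset.univ : Finset P'.S).powerset, (-1 : ℂ) ^ J.card *
          (if IsPElt p g then
            (Nat.card (MulAction.fixedBy (Γ ⧸ P'.parabolic (Subtype.val '' (↑J : Set P'.S))) g) : ℂ)
          else 0) := by
      intro g
      unfold stFun
      split_ifs
      · rfl
      · simp
    simp_rw [h1]
    rw [Finset.sum_comm]
    apply Finset.sum_congr rfl
    intro J _
    rw [← Finset.mul_sum]
    congr 1
    exact Cfsg.Agent.Helper67.UnipU1.sum_fixedBy_pred _ (IsPElt p) (fun g x => isPElt_conj g x)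
  have hB : ∀ g : Γ, (if IsPElt p g then stFun P' g else 0) =
      if g ∈ O then ((B₀.subgroupOf P'.B).index : ℂ) else 0 := by
    intro g
    by_cases hg : IsPElt p g
    · rw [if_pos hg]
      obtain ⟨x, hx⟩ := Cfsg.Agent.Helper50.UnipU345.exists_conj_mem_of_not_dvd_index p U' hidx g hg
      rw [← stFun_conj P' g x, stFun_of_mem P' p U' O B₀ hU'B hU'p hU'all hOn n₀ hn₀ hmax hB₀ hB₀U _ hx]
      have : x * g * x⁻¹ ∈ O ↔ g ∈ O := by
        constructor
        · intro h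
          have := hOn.conj_mem _ h x⁻¹
          have e3 : x⁻¹ * (x * g * x⁻¹) * x⁻¹⁻¹ = g := by group
          rwa [e3] at this
        · intro h
          exact hOn.conj_mem _ h x
      simp only [this]
    · rw [if_neg hg]
      have : g ∉ O := fun h => hg (isPElt_of_mem hU'p (hO h))
      rw [if_neg this]
  rw [← hA]
  simp_rw [hB]
  rw [← Finset.sum_filter, Finset.sum_const, nsmul_eq_mul, hcard]
  have hc : (Finset.univ.filter (fun x : Γ => x ∈ O)).card = Nat.card O := by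
    rw [Nat.card_eq_fintype_card, Fintype.card_subtype]
  rw [hc]
  push_cast
  ring

end Full

end Cfsg.Agent.Helper19.Unip
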