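import Cfsg.Agent.Helper19.Poinc.Bruhat
import Cfsg.Agent.Helper77.ChevLin
import Cfsg.Agent.S1031
import Cfsg.Agent.S1038

/-!
# Conjugation by a monomial element with all of `K` as descents sends `Φ_K⁺` to negative roots (hedge copy of (CONJ))
-/

set_option autoImplicit false
set_option maxRecDepth 100000

namespace Cfsg.Agent.Helper19.UnipConj

open Cfsg Cfsg.Lie Cfsg.Agent.Helper18 Cfsg.Agent.Helper19.Cox Cfsg.Agent.Helper19.Poinc

theorem conj_pos_mem_neg {F : Type*} [Field F] (D : ChevalleyDatum)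
    (hD : D ∈ [chevG2, chevB2, chevD4, chevF4, chevE6, chevE7, chevE8])
    (m : GL D.Idx F) (hm : m ∈ D.monomialSubgroup F) (K : Set ℕ)
    (hdesc : ∀ i ∈ K, i < D.rank →
      ¬ ∀ t : F, m * xGL D F (D.simple i) t * m⁻¹ ∈ D.borelSubgroup F)
    (r : ℕ) (t : F) (hr : D.IsPosRoot r) (hrK : D.InRootSub K r) :
    m * xGL D F r t * m⁻¹ ∈ D.negUnipotent F := by
  classical
  have h31 : NConjHyp D F := fun i s hi hs => Cfsg.Agent.S1031.result D hD i s hi hs
  have hn : (HN D F).Normal := Cfsg.Agent.S1038.result D hD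
  obtain ⟨C⟩ := exists_cert D hD
  have hpos := posOK_of_mem D hD
  obtain ⟨w, hw⟩ := psi_surjective D hD C.M C.Mx C.hMx C.tabs C.ht C.hbr h31 C.words C.hreach
    (QuotientGroup.mk (⟨m, hm⟩ : ↥(D.monomialSubgroup F)))
  have hnw : (QuotientGroup.mk (⟨m, hm⟩ : ↥(D.monomialSubgroup F)) :
      ↥(D.monomialSubgroup F) ⧸ HN D F) = psiC D hD C h31 w := hw.symm
  obtain ⟨word, hword, rfl⟩ := exists_word C.M w
  have key : ∀ s < D.nroots, ∀ t : F, rho D word s < D.nroots ∧
      ∃ t' : F, m * xGL D F s t * m⁻¹ = xGL D F (rho D word s) t' := by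
    intro s hs t
    obtain ⟨hlt, t', e⟩ := conj_rep D hD C h31 (gp C.M word) ⟨m, hm⟩ hnw s hs t
    have e3 : phi C.M C.Mx C.hI C.hB C.hMx (gp C.M word) s = rho D word s := by
      rw [phi_gp, (actW_eq_rho D C.tabs C.ht word hword s hs).1]
    rw [e3] at hlt e
    exact ⟨hlt, t', e⟩
  have hneg : ∀ i ∈ K, i < D.rank → D.IsNegRoot (rho D word (D.simple i)) := by
    intro i hiK hi
    have hp := simple_lt D (simpleOK_of_mem D hD) i hi
    rw [isNegRoot_iff D _ hpos]
    refine ⟨?_, (key _ hp 0).1⟩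
    by_contra hcon
    have hcon' := not_lt.mp hcon
    apply hdesc i hiK hi
    intro t
    obtain ⟨hlt, t', e⟩ := key _ hp t
    rw [e]
    exact le_sup_left (a := D.posUnipotent F) (rootSubgroup_le_posUnipotent D hD _
      ((isPosRoot_iff D _ hpos _).mpr ⟨hcon', hlt⟩) (xGL_mem_rootSubgroup D hD _ _))
  have hfin := Cfsg.Agent.Helper77.ChevLin.rho_neg_of_simple_neg D hD word hword K hneg r hr hrK
  obtain ⟨hlt, t', e⟩ := key r hr.1 t
  rw [e]
  exact rootSubgroup_le_negUnipotent D hD _ hfin (xGL_mem_rootSubgroup D hD _ _)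

end Cfsg.Agent.Helper19.UnipConj
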