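import Cfsg.Agent.Helper36.LeviBruhat
import Cfsg.Agent.Helper19.Poinc.ChevCount
import Cfsg.Agent.S1036

/-!
# `B ∩ m⁻¹ B m = U_K H` for a representative of the longest element of `W_K` (hedge copy of (INT))
-/

set_option autoImplicit false

namespace Cfsg.Agent.Helper19.UnipInt

open Cfsg Cfsg.Lie Cfsg.Agent.Helper18 Cfsg.Agent.Helper19.Poinc Cfsg.Agent.Helper36.LeviBruhat

variable {F : Type*} [Field F] (D : ChevalleyDatum)
  (hD : D ∈ [chevG2, chevB2, chevD4, chevF4, chevE6, chevE7, chevE8])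
include hD

theorem conj_mem_borel_iff (K : Set ℕ) (m : GL D.Idx F) (hmN : m ∈ D.monomialSubgroup F)
    (hmP : m ∈ D.parabolicSubgroup F K)
    (hneg : ∀ (r : ℕ) (t : F), D.IsPosRoot r → D.InRootSub K r →
      m * xGL D F r t * m⁻¹ ∈ D.negUnipotent F)
    (u : GL D.Idx F) (hu : u ∈ D.borelSubgroup F) :
    m * u * m⁻¹ ∈ D.borelSubgroup F ↔ u ∈ D.unipotentRadical F K ⊔ D.diagonalSubgroup F := by
  have htri := triOK_of_mem D hD
  obtain ⟨hnormK, -, -⟩ := Cfsg.Agent.S1048.result (F := F) D hD K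
  have hnormH := monomialSubgroup_le_normalizer (F := F) D hD hmN
  have hHB : D.diagonalSubgroup F ≤ D.borelSubgroup F := le_sup_right
  have hUB : D.posUnipotent F ≤ D.borelSubgroup F := le_sup_left
  have hRU := radical_le_pos (K := F) D K
  constructor
  · intro h
    obtain ⟨u₁, hu₁, h₁, hh₁, rfl⟩ := exists_mul_of_mem_sup (Cfsg.Agent.S1036.result (F := F) D hD).1 hu
    obtain ⟨z, hz, y, hy, rfl⟩ := pos_decomp D hD K u₁ hu₁
    have hz' : m * z * m⁻¹ ∈ D.unipotentRadical F K :=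
      (Subgroup.mem_normalizer_iff.mp (hnormK hmP) z).mp hz
    have hh' : m * h₁ * m⁻¹ ∈ D.diagonalSubgroup F :=
      (Subgroup.mem_normalizer_iff.mp hnormH h₁).mp hh₁
    have hy' : m * y * m⁻¹ ∈ D.borelSubgroup F := by
      have e : m * y * m⁻¹ = (m * z * m⁻¹)⁻¹ * (m * (z * y * h₁) * m⁻¹) * (m * h₁ * m⁻¹)⁻¹ := by
        group
      rw [e]
      exact Subgroup.mul_mem _ (Subgroup.mul_mem _ (Subgroup.inv_mem _ (hUB (hRU hz'))) h)
        (Subgroup.inv_mem _ (hHB hh'))
    have hyV : m * y * m⁻¹ ∈ D.negUnipotent F := by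
      have hle : US D F K ≤ (D.negUnipotent F).comap (MulAut.conj m).toMonoidHom := by
        unfold US
        rw [Subgroup.closure_le]
        rintro g ⟨r, t, hr, hrK, hg⟩
        have hgx : g = xGL D F r t := by
          apply Units.ext
          rw [hg, xGL_val D _ htri]
        rw [SetLike.mem_coe, Subgroup.mem_comap, hgx]
        exact hneg r t hr hrK
      exact hle hy
    have h1 : m * y * m⁻¹ ∈ D.borelSubgroup F ⊓ D.negUnipotent F := ⟨hy', hyV⟩
    rw [(Cfsg.Agent.S1037.result (F := F) D hD).1, Subgroup.mem_bot] at h1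
    have hy1 : y = 1 := by
      have : y = m⁻¹ * (m * y * m⁻¹) * m := by group
      rw [this, h1]
      group
    rw [hy1, mul_one]
    exact Subgroup.mul_mem _ (Subgroup.mem_sup_left hz) (Subgroup.mem_sup_right hh₁)
  · intro h
    have hle : D.unipotentRadical F K ⊔ D.diagonalSubgroup F ≤
        (D.borelSubgroup F).comap (MulAut.conj m).toMonoidHom := by
      apply sup_le
      · intro z hz
        rw [Subgroup.mem_comap]
        exact hUB (hRU ((Subgroup.mem_normalizer_iff.mp (hnormK hmP) z).mp hz))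
      · intro h₁ hh₁
        rw [Subgroup.mem_comap]
        exact hHB ((Subgroup.mem_normalizer_iff.mp hnormH h₁).mp hh₁)
    exact hle h

theorem mem_radical_of_mem_sup (K : Set ℕ) (u : GL D.Idx F) (hu : u ∈ D.posUnipotent F)
    (h : u ∈ D.unipotentRadical F K ⊔ D.diagonalSubgroup F) : u ∈ D.unipotentRadical F K := by
  obtain ⟨hnormK, -, -⟩ := Cfsg.Agent.S1048.result (F := F) D hD K
  have hHP : D.diagonalSubgroup F ≤ D.parabolicSubgroup F K := by
    unfold ChevalleyDatum.parabolicSubgroup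
    exact le_sup_right.trans le_sup_left
  obtain ⟨z, hz, h₁, hh₁, rfl⟩ := exists_mul_of_mem_sup (hHP.trans hnormK) h
  have hRU := radical_le_pos (K := F) D K
  have h1 : h₁ ∈ D.posUnipotent F ⊓ D.diagonalSubgroup F := by
    refine ⟨?_, hh₁⟩
    have : h₁ = z⁻¹ * (z * h₁) := by group
    rw [this]
    exact Subgroup.mul_mem _ (Subgroup.inv_mem _ (hRU hz)) hu
  rw [(Cfsg.Agent.S1036.result (F := F) D hD).2, Subgroup.mem_bot] at h1
  rw [h1, mul_one]
  exact hz

theorem card_radical_sup [Finite F] (K : Set ℕ) :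
    Nat.card ↥(D.unipotentRadical F K ⊔ D.diagonalSubgroup F) =
      Nat.card (D.unipotentRadical F K) * Nat.card (D.diagonalSubgroup F) := by
  obtain ⟨hnormK, -, -⟩ := Cfsg.Agent.S1048.result (F := F) D hD K
  have hHP : D.diagonalSubgroup F ≤ D.parabolicSubgroup F K := by
    unfold ChevalleyDatum.parabolicSubgroup
    exact le_sup_right.trans le_sup_left
  have hRU := radical_le_pos (K := F) D K
  have hint := (Cfsg.Agent.S1036.result (F := F) D hD).2
  rw [← Nat.card_prod]
  symm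
  refine Nat.card_congr (Equiv.ofBijective
    (fun q : D.unipotentRadical F K × D.diagonalSubgroup F =>
      (⟨(q.1 : GL D.Idx F) * q.2, Subgroup.mul_mem _ (Subgroup.mem_sup_left q.1.2)
        (Subgroup.mem_sup_right q.2.2)⟩ : ↥(D.unipotentRadical F K ⊔ D.diagonalSubgroup F))) ⟨?_, ?_⟩)
  · rintro ⟨⟨z, hz⟩, ⟨h, hh⟩⟩ ⟨⟨z', hz'⟩, ⟨h', hh'⟩⟩ heq
    have e : z * h = z' * h' := congrArg Subtype.val heq
    have h1 : z'⁻¹ * z ∈ D.posUnipotent F ⊓ D.diagonalSubgroup F := by
      refine ⟨hRU (Subgroup.mul_mem _ (Subgroup.inv_mem _ hz') hz), ?_⟩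
      have : z'⁻¹ * z = h' * h⁻¹ := by
        have : z'⁻¹ * z = z'⁻¹ * (z * h) * h⁻¹ := by group
        rw [this, e]; group
      rw [this]
      exact Subgroup.mul_mem _ hh' (Subgroup.inv_mem _ hh)
    rw [hint, Subgroup.mem_bot] at h1
    have hzz : z = z' := by
      have : z = z' * (z'⁻¹ * z) := by group
      rw [this, h1, mul_one]
    subst hzz
    have hhh : h = h' := mul_left_cancel e
    subst hhh
    rfl
  · rintro ⟨x, hx⟩
    obtain ⟨z, hz, h₁, hh₁, rfl⟩ := exists_mul_of_mem_sup (hHP.trans hnormK) hx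
    exact ⟨⟨⟨z, hz⟩, ⟨h₁, hh₁⟩⟩, rfl⟩

theorem card_pos_eq_index_mul [Fintype F] (K : Set ℕ) :
    Nat.card (D.posUnipotent F) =
      ((D.unipotentRadical F K ⊔ D.diagonalSubgroup F).subgroupOf (D.borelSubgroup F)).index *
        Nat.card (D.unipotentRadical F K) := by
  have hRU := radical_le_pos (K := F) D K
  have hle : D.unipotentRadical F K ⊔ D.diagonalSubgroup F ≤ D.borelSubgroup F :=
    sup_le (hRU.trans le_sup_left) le_sup_right
  have h1 := Subgroup.index_mul_card
    ((D.unipotentRadical F K ⊔ D.diagonalSubgroup F).subgroupOf (D.borelSubgroup F))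
  rw [Nat.card_congr (Subgroup.subgroupOfEquivOfLe hle).toEquiv, card_radical_sup D hD K,
    card_borel D hD] at h1
  have hpos : 0 < Nat.card (D.diagonalSubgroup F) := Nat.card_pos
  apply Nat.eq_of_mul_eq_mul_right hpos
  rw [← h1]
  ring

end Cfsg.Agent.Helper19.UnipInt
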