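import Cfsg.Agent.Helper19.Stein.ChevSign
import Cfsg.Agent.Helper19.Stein.CoxMin
import Cfsg.Agent.Helper18.TorusH
import Cfsg.Agent.Helper18.UpStruct
import Cfsg.Agent.S1025
import Cfsg.Agent.S1027

/-!
# `U` has index prime to `p` in a Chevalley group, without the order formulas (hedge copy of (SYL))
-/

set_option autoImplicit false
set_option maxRecDepth 100000

namespace Cfsg.Agent.Helper19.UnipSyl

open Cfsg Cfsg.Lie Cfsg.Agent.Helper6 Cfsg.Agent.Helper18 Cfsg.Agent.Helper19.Cox
  Cfsg.Agent.Helper19.Poinc Cfsg.Agent.Helper19.Stein DoubleCoset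

variable {F : Type*} [Field F] [Fintype F] (p : ℕ) [Fact p.Prime] [CharP F p] (D : ChevalleyDatum)
  (hD : D ∈ [chevG2, chevB2, chevD4, chevF4, chevE6, chevE7, chevE8])
include hD

theorem not_dvd_card_diagonalSubgroup : ¬ p ∣ Nat.card (D.diagonalSubgroup F) := by
  classical
  have hp : p.Prime := Fact.out
  obtain ⟨n, -, hn⟩ := FiniteField.card F p
  rw [← torusHom_range D hD]
  intro hdvd
  have h1 : Nat.card (torusHom D F).range ∣ Nat.card (Fin D.rank → Fˣ) :=
    Subgroup.card_range_dvd (torusHom D F)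
  have h2 : Nat.card (Fin D.rank → Fˣ) = (Fintype.card F - 1) ^ D.rank := by
    rw [Nat.card_eq_fintype_card, Fintype.card_fun, Fintype.card_units, Fintype.card_fin]
  rw [h2] at h1
  have h3 : p ∣ Fintype.card F - 1 := hp.dvd_of_dvd_pow (hdvd.trans h1)
  have h4 : p ∣ Fintype.card F := by rw [hn]; exact dvd_pow_self p n.ne_zero
  have h5 : 1 ≤ Fintype.card F := Fintype.card_pos
  have h6 : p ∣ 1 := by
    have := (Nat.dvd_sub h4 h3)
    rwa [Nat.sub_sub_self h5] at this
  exact hp.one_lt.ne' (Nat.dvd_one.mp h6)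

theorem not_dvd_index_posUnipotent :
    ¬ p ∣ ((D.posUnipotent F).subgroupOf (D.group F)).index := by
  classical
  have hp : p.Prime := Fact.out
  have h25 : CommHyp D F := fun r s hr hs h1 h2 t u => Cfsg.Agent.S1025.result D hD r s hr hs h1 h2 t u
  obtain ⟨P, hB, hN, hS⟩ := exists_bnPair (F := F) D hD h25
  have h45 : H45 D F := fun i hi =>
    ⟨rootSubgroup_le_normalizer_Up D hD h25 i hi, Up_sup_rootSubgroup D hD i hi⟩
  obtain ⟨hBG, hNG, -⟩ := Cfsg.Agent.S1043.result (F := F) D hD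
  obtain ⟨hnormH, hintUH⟩ := Cfsg.Agent.S1036.result (F := F) D hD
  have hE := exchData_wf P
  have hs := simpleOK_of_mem D hD
  have hpos := posOK_of_mem D hD
  have hUB : D.posUnipotent F ≤ D.borelSubgroup F := le_sup_left
  have hBN : D.borelSubgroup F ≤ Subgroup.normalizer (D.posUnipotent F : Set (GL D.Idx F)) :=
    sup_le Subgroup.le_normalizer hnormH
  set U' : Subgroup ↥(D.group F) := (D.posUnipotent F).subgroupOf (D.group F) with hU'
  have hU'B : U' ≤ P.B := by
    rw [hB]
    intro x hx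
    exact hUB hx
  have hU'p : IsPGroup p U' := by
    obtain ⟨n, -, hn⟩ := FiniteField.card F p
    apply IsPGroup.of_card (n := (n : ℕ) * (D.nroots / 2))
    rw [Nat.card_congr (Subgroup.subgroupOfEquivOfLe (hUB.trans hBG)).toEquiv,
      Cfsg.Agent.S1027.result D hD, hn, pow_mul]
  have hnormU : ∀ b ∈ P.B, ∀ u ∈ U', b * u * b⁻¹ ∈ U' := by
    intro b hb u hu
    rw [hB] at hb
    have h1 : (b : GL D.Idx F) ∈ Subgroup.normalizer (D.posUnipotent F : Set (GL D.Idx F)) := hBN hb
    exact (Subgroup.mem_normalizer_iff.mp h1 _).mp hu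
  -- the only fixed point of `U` on `G/B`
  have hfix : ∀ x : ↥(D.group F) ⧸ P.B, (∀ u : U', u • x = x) → x = QuotientGroup.mk 1 := by
    intro x hx
    induction x using QuotientGroup.induction_on with
    | H g =>
      obtain ⟨n, hnN, -, hg⟩ := exists_rep P g
      rw [mem_dc] at hg
      obtain ⟨b, hb, b', hb', rfl⟩ := hg
      have hconj : ∀ u ∈ U', n⁻¹ * u * n ∈ P.B := by
        intro u hu
        have hu2 : b * u * b⁻¹ ∈ U' := hnormU b hb u hu
        have h1 := hx ⟨b * u * b⁻¹, hu2⟩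
        have h2 : (⟨b * u * b⁻¹, hu2⟩ : U') • (QuotientGroup.mk (b * n * b') : ↥(D.group F) ⧸ P.B) =
            QuotientGroup.mk (b * u * b⁻¹ * (b * n * b')) := rfl
        rw [h2, QuotientGroup.eq] at h1
        have h3 : (b * u * b⁻¹ * (b * n * b'))⁻¹ * (b * n * b') = b'⁻¹ * (n⁻¹ * u * n)⁻¹ * b' := by
          group
        rw [h3] at h1
        have h4 : (n⁻¹ * u * n)⁻¹ = b' * (b'⁻¹ * (n⁻¹ * u * n)⁻¹ * b') * b'⁻¹ := by group
        have h5 : (n⁻¹ * u * n)⁻¹ ∈ P.B := by
          rw [h4]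
          exact P.B.mul_mem (P.B.mul_mem hb' h1) (P.B.inv_mem hb')
        simpa using P.B.inv_mem h5
      have hnB : n ∈ P.B := by
        have hm : n⁻¹ ∈ P.N := P.N.inv_mem hnN
        have hmin : MinR (wf P) Set.univ (mkW P n⁻¹ hm) := by
          intro s _
          have hs2 : s.1 ∈ {n : ↥(D.group F) | ∃ i < D.rank,
              ((n : GL D.Idx F) : Matrix D.Idx D.Idx F) = D.nMat F (D.simple i) 1} := hS ▸ s.2
          obtain ⟨i, hi, hsi⟩ := hs2
          have hpi := simple_lt D hs i hi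
          refine sign_criterion D hD h45 P hB n⁻¹ hm i hi s hsi ?_
          intro t
          have hx : xGL D F (D.simple i) t ∈ D.posUnipotent F :=
            rootSubgroup_le_posUnipotent D hD _
              ((isPosRoot_iff D _ hpos _).mpr ⟨simple_pos D hD i hi, hpi⟩) (xGL_mem_rootSubgroup D hD _ _)
          have h1 := hconj ⟨xGL D F (D.simple i) t, hBG (hUB hx)⟩ hx
          rw [hB] at h1
          have h2 : ((n⁻¹ * ⟨xGL D F (D.simple i) t, hBG (hUB hx)⟩ * n : ↥(D.group F)) : GL D.Idx F) ∈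
              D.borelSubgroup F := h1
          simpa using h2
        have h1 := eq_one_of_minR_univ hE hmin
        have h2 := (mkW_eq_one_iff P hm).mp h1
        simpa using P.B.inv_mem h2
      rw [QuotientGroup.eq]
      have : (b * n * b')⁻¹ * 1 = (b * n * b')⁻¹ := mul_one _
      rw [this]
      exact P.B.inv_mem (P.B.mul_mem (P.B.mul_mem hb hnB) hb')
  -- counting mod `p`
  have hcount := hU'p.card_modEq_card_fixedPoints (↥(D.group F) ⧸ P.B)
  have hfp : Nat.card (MulAction.fixedPoints U' (↥(D.group F) ⧸ P.B)) = 1 := by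
    rw [Nat.card_eq_one_iff_unique]
    refine ⟨⟨?_⟩, ⟨⟨QuotientGroup.mk 1, ?_⟩⟩⟩
    · rintro ⟨x, hx⟩ ⟨y, hy⟩
      apply Subtype.ext
      exact (hfix x hx).trans (hfix y hy).symm
    · intro u
      have h2 : u • (QuotientGroup.mk 1 : ↥(D.group F) ⧸ P.B) = QuotientGroup.mk ((u : ↥(D.group F)) * 1) := rfl
      rw [h2, QuotientGroup.eq]
      simpa using P.B.inv_mem (hU'B u.2)
  rw [hfp, ← Subgroup.index_eq_card] at hcount
  have hBidx : ¬ p ∣ P.B.index := by
    intro hdvd
    have h1 : P.B.index % p = 0 := Nat.mod_eq_zero_of_dvd hdvd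
    have h2 : P.B.index % p = 1 % p := hcount
    rw [h1, Nat.mod_eq_of_lt hp.one_lt] at h2
    exact zero_ne_one h2
  -- `[B : U] = |H|`
  have hrel : U'.relIndex P.B = Nat.card (D.diagonalSubgroup F) := by
    have e1 : U'.relIndex P.B = (D.posUnipotent F).relIndex (D.borelSubgroup F) := by
      rw [hU', hB]
      change ((D.posUnipotent F).comap (D.group F).subtype).relIndex _ = _
      rw [Subgroup.relIndex_comap, Subgroup.subgroupOf_map_subtype, inf_eq_left.mpr hBG]
    rw [e1]
    have h2 := Subgroup.index_mul_card ((D.posUnipotent F).subgroupOf (D.borelSubgroup F))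
    rw [Nat.card_congr (Subgroup.subgroupOfEquivOfLe hUB).toEquiv, card_borel D hD] at h2
    have hpos' : 0 < Nat.card (D.posUnipotent F) := Nat.card_pos
    apply Nat.eq_of_mul_eq_mul_right hpos'
    rw [mul_comm (Nat.card (D.diagonalSubgroup F))]
    exact h2
  rw [← Subgroup.relIndex_mul_index hU'B, hrel]
  exact hp.not_dvd_mul (not_dvd_card_diagonalSubgroup p D hD) hBidx

end Cfsg.Agent.Helper19.UnipSyl
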