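import Cfsg.Agent.Helper19.Unip.Full
import Cfsg.Agent.Helper19.Unip.MyInt
import Cfsg.Agent.Helper19.Unip.MyConj
import Cfsg.Agent.Helper19.Unip.MySyl
import Cfsg.Agent.Helper69.UnipSB
import Cfsg.Agent.S1048

/-!
# The identity of `Full.lean` for the parabolic subgroups of a Chevalley group
-/

set_option autoImplicit false
set_option maxRecDepth 100000

namespace Cfsg.Agent.Helper19.Unip

open Cfsg Cfsg.Lie Cfsg.Agent.Helper6 Cfsg.Agent.Helper18 Cfsg.Agent.Helper19.Cox
  Cfsg.Agent.Helper19.Poinc Cfsg.Agent.Helper19.Stein Cfsg.Agent.Helper19.UnipConj Cfsg.Agent.Helper19.UnipSyl Cfsg.Agent.Helper19.UnipInt Cfsg.Agent.Helper69.UnipSB DoubleCoset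

section ChevK

variable {F : Type*} [Field F] (D : ChevalleyDatum)
  (hD : D ∈ [chevG2, chevB2, chevD4, chevF4, chevE6, chevE7, chevE8])

/-- the distinguished generators indexed by `Kn` -/
def gensOf (F : Type*) [Field F] (Kn : Set ℕ) : Set ↥(D.group F) :=
  {g | ∃ j ∈ Kn, j < D.rank ∧ ((g : GL D.Idx F) : Matrix D.Idx D.Idx F) = D.nMat F (D.simple j) 1}

variable (P : Cfsg.BNPair ↥(D.group F))
  (hB : P.B = (D.borelSubgroup F).subgroupOf (D.group F))
  (hN : P.N = (D.monomialSubgroup F).subgroupOf (D.group F))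
  (hS : P.S = {n : ↥(D.group F) | ∃ i < D.rank,
    ((n : GL D.Idx F) : Matrix D.Idx D.Idx F) = D.nMat F (D.simple i) 1})

include hS in
theorem gensOf_subset (Kn : Set ℕ) : gensOf D F Kn ⊆ P.S := by
  rintro g ⟨j, -, hj, hg⟩
  rw [hS]
  exact ⟨j, hj, hg⟩

include hD hB in
/-- the parabolic subgroup of the (B,N)-pair is the standard parabolic subgroup -/
theorem parabolic_gensOf (Kn : Set ℕ) :
    P.parabolic (gensOf D F Kn) = (D.parabolicSubgroup F Kn).subgroupOf (D.group F) := by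
  obtain ⟨hBG, hNG, -⟩ := Cfsg.Agent.S1043.result (F := F) D hD
  have hs := simpleOK_of_mem D hD
  unfold ChevalleyDatum.parabolicSubgroup Cfsg.BNPair.parabolic
  have hSG : {g : GL D.Idx F | ∃ j ∈ Kn, j < D.rank ∧
      (g : Matrix D.Idx D.Idx F) = D.nMat F (D.simple j) 1} ⊆ (D.group F : Set (GL D.Idx F)) := by
    rintro g ⟨j, -, hj, hg⟩
    rw [nG_unique D hD j g hg]
    exact hNG (nGL_mem_monomialSubgroup D hD _ (simple_lt D hs j hj))
  rw [Subgroup.subgroupOf_sup hBG ((Subgroup.closure_le _).mpr hSG), closure_subgroupOf _ _ hSG, hB]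
  rfl

/-- a subgroup of `GL`, as a subgroup of a subgroup of the Chevalley group -/
def lift2 (PK : Subgroup ↥(D.group F)) (X : Subgroup (GL D.Idx F)) : Subgroup ↥PK :=
  (X.subgroupOf (D.group F)).subgroupOf PK

theorem mem_lift2 {PK : Subgroup ↥(D.group F)} {X : Subgroup (GL D.Idx F)} (g : ↥PK) :
    g ∈ lift2 D PK X ↔ ((g : ↥(D.group F)) : GL D.Idx F) ∈ X := Iff.rfl

theorem lift2_mono {PK : Subgroup ↥(D.group F)} {X Y : Subgroup (GL D.Idx F)} (h : X ≤ Y) :
    lift2 D PK X ≤ lift2 D PK Y := fun _ hg => h hg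

/-- the composite inclusion -/
def incl (PK : Subgroup ↥(D.group F)) : ↥PK →* GL D.Idx F := (D.group F).subtype.comp PK.subtype

theorem incl_injective (PK : Subgroup ↥(D.group F)) : Function.Injective (incl D PK) :=
  fun _ _ h => Subtype.ext (Subtype.ext h)

theorem lift2_eq_comap (PK : Subgroup ↥(D.group F)) (X : Subgroup (GL D.Idx F)) :
    lift2 D PK X = X.comap (incl D PK) := rfl

/-- transfer of the order -/
theorem card_lift2 {PK : Subgroup ↥(D.group F)} {X : Subgroup (GL D.Idx F)}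
    (hX : ∀ x ∈ X, ∃ hx : x ∈ D.group F, (⟨x, hx⟩ : ↥(D.group F)) ∈ PK) :
    Nat.card (lift2 D PK X) = Nat.card X := by
  refine Nat.card_congr (Equiv.ofBijective
    (fun g : lift2 D PK X => (⟨incl D PK g.1, g.2⟩ : X)) ⟨?_, ?_⟩)
  · intro a b hab
    apply Subtype.ext
    apply incl_injective D PK
    have := congrArg Subtype.val hab
    exact this
  · rintro ⟨x, hx⟩
    obtain ⟨h1, h2⟩ := hX x hx
    exact ⟨⟨⟨⟨x, h1⟩, h2⟩, hx⟩, rfl⟩

theorem range_incl (PK : Subgroup ↥(D.group F)) (Y : Subgroup (GL D.Idx F))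
    (hY : ∀ x ∈ Y, ∃ hx : x ∈ D.group F, (⟨x, hx⟩ : ↥(D.group F)) ∈ PK) :
    (lift2 D PK Y).map (incl D PK) = Y := by
  rw [lift2_eq_comap, Subgroup.map_comap_eq, inf_eq_right]
  intro x hx
  obtain ⟨h1, h2⟩ := hY x hx
  exact ⟨⟨⟨x, h1⟩, h2⟩, rfl⟩

/-- transfer of the relative index -/
theorem relIndex_lift2 (PK : Subgroup ↥(D.group F)) (X Y : Subgroup (GL D.Idx F))
    (hY : ∀ x ∈ Y, ∃ hx : x ∈ D.group F, (⟨x, hx⟩ : ↥(D.group F)) ∈ PK) :
    ((lift2 D PK X).subgroupOf (lift2 D PK Y)).index = (X.subgroupOf Y).index := by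
  change (lift2 D PK X).relIndex (lift2 D PK Y) = X.relIndex Y
  rw [lift2_eq_comap D PK X, Subgroup.relIndex_comap, range_incl D PK Y hY]

theorem isPElt_incl {p : ℕ} (PK : Subgroup ↥(D.group F)) (g : ↥PK) :
    IsPElt p (incl D PK g) ↔ IsPElt p g := by
  unfold IsPElt
  rw [orderOf_injective (incl D PK) (incl_injective D PK) g]

variable [Fintype F] (p : ℕ) [Fact p.Prime] [CharP F p]

omit [Fact p.Prime] in
include hD in
theorem isPGroup_pos : IsPGroup p (D.posUnipotent F) := by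
  obtain ⟨n, -, hn⟩ := FiniteField.card F p
  apply IsPGroup.of_card (n := (n : ℕ) * (D.nroots / 2))
  rw [Cfsg.Agent.S1027.result D hD, hn, pow_mul]

include hD in
theorem isPGroup_lift2_pos (PK : Subgroup ↥(D.group F)) :
    IsPGroup p (lift2 D PK (D.posUnipotent F)) := by
  let φ : ↥(lift2 D PK (D.posUnipotent F)) →* ↥(D.posUnipotent F) :=
    { toFun := fun g => ⟨incl D PK g.1, g.2⟩
      map_one' := rfl
      map_mul' := fun _ _ => rfl }
  refine (isPGroup_pos D hD p).of_injective φ ?_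
  intro a b hab
  apply Subtype.ext
  apply incl_injective D PK
  have := congrArg Subtype.val hab
  exact this

include hD in
/-- the `p`-elements of `B` lie in `U` -/
theorem mem_pos_of_isPElt (b : GL D.Idx F) (hb : b ∈ D.borelSubgroup F) (hp : IsPElt p b) :
    b ∈ D.posUnipotent F := by
  obtain ⟨hnorm, hint⟩ := Cfsg.Agent.S1036.result (F := F) D hD
  have hUB : D.posUnipotent F ≤ D.borelSubgroup F := le_sup_left
  have hBN : D.borelSubgroup F ≤ Subgroup.normalizer (D.posUnipotent F : Set (GL D.Idx F)) :=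
    sup_le Subgroup.le_normalizer hnorm
  have : ((D.posUnipotent F).subgroupOf (D.borelSubgroup F)).Normal :=
    (Subgroup.normal_subgroupOf_iff_le_normalizer hUB).mpr hBN
  have hidx : ¬ p ∣ ((D.posUnipotent F).subgroupOf (D.borelSubgroup F)).index := by
    have h2 := Subgroup.index_mul_card ((D.posUnipotent F).subgroupOf (D.borelSubgroup F))
    rw [Nat.card_congr (Subgroup.subgroupOfEquivOfLe hUB).toEquiv, card_borel D hD] at h2
    have hpos : 0 < Nat.card (D.posUnipotent F) := Nat.card_pos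
    have h3 : ((D.posUnipotent F).subgroupOf (D.borelSubgroup F)).index =
        Nat.card (D.diagonalSubgroup F) := by
      apply Nat.eq_of_mul_eq_mul_right hpos
      rw [h2, mul_comm]
    rw [h3]
    exact not_dvd_card_diagonalSubgroup (F := F) p D hD
  have h4 := Cfsg.Agent.Helper50.UnipU345.mem_of_pElt_of_not_dvd_index p
    ((D.posUnipotent F).subgroupOf (D.borelSubgroup F)) hidx (⟨b, hb⟩ : ↥(D.borelSubgroup F)) (by
      obtain ⟨k, hk⟩ := hp
      exact ⟨k, by rw [← hk, Subgroup.orderOf_mk]⟩)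
  exact h4

variable (h45 : H45 D F)

include hD hB hN hS h45 in
omit [Fintype F] in
/-- the longest element of `W_K`, with `B ∩ n₀ B n₀⁻¹ = U_K H` -/
theorem exists_rel_longest [Finite F] (Kn : Set ℕ) :
    ∃ n₀ : ↥(P.parabolic (gensOf D F Kn)),
      ∃ hn₀ : n₀ ∈ (subBN P (gensOf D F Kn) (gensOf_subset D P hS Kn)).N,
      MaxR (wf (subBN P (gensOf D F Kn) (gensOf_subset D P hS Kn)))
        (mkW (subBN P (gensOf D F Kn) (gensOf_subset D P hS Kn)) n₀ hn₀) ∧
      ∀ u ∈ (subBN P (gensOf D F Kn) (gensOf_subset D P hS Kn)).B,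
        n₀⁻¹ * u * n₀ ∈ (subBN P (gensOf D F Kn) (gensOf_subset D P hS Kn)).B ↔
        u ∈ lift2 D (P.parabolic (gensOf D F Kn))
          (D.unipotentRadical F Kn ⊔ D.diagonalSubgroup F) := by
  have hK := gensOf_subset D P hS Kn
  set PK := P.parabolic (gensOf D F Kn) with hPK
  set P' := subBN P (gensOf D F Kn) hK with hP'
  have hE := exchData_wf P'
  have hPKeq := parabolic_gensOf D hD P hB Kn
  obtain ⟨hBG, hNG, -⟩ := Cfsg.Agent.S1043.result (F := F) D hD
  have hs := simpleOK_of_mem D hD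
  have hpos := posOK_of_mem D hD
  obtain ⟨w', hw'⟩ := exists_maxR hE
  obtain ⟨n', hn', rfl⟩ := mkW_surjective P' w'
  have hmaxL := maxL_of_maxR hE hw'
  have hn'N : ((n' : ↥(D.group F)) : GL D.Idx F) ∈ D.monomialSubgroup F := by
    have h1 : (n' : ↥(D.group F)) ∈ NK P (gensOf D F Kn) := hn'
    have h2 := NK_le_N P _ hK h1
    rw [hN] at h2
    exact h2
  have hn'P : ((n' : ↥(D.group F)) : GL D.Idx F) ∈ D.parabolicSubgroup F Kn := by
    have h1 : (n' : ↥(D.group F)) ∈ P.parabolic (gensOf D F Kn) := n'.2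
    have h2 : (n' : ↥(D.group F)) ∈ (D.parabolicSubgroup F Kn).subgroupOf (D.group F) := hPKeq ▸ h1
    exact h2
  set m : GL D.Idx F := ((n' : ↥(D.group F)) : GL D.Idx F)⁻¹ with hm
  have hmN : m ∈ D.monomialSubgroup F := Subgroup.inv_mem _ hn'N
  have hmP : m ∈ D.parabolicSubgroup F Kn := Subgroup.inv_mem _ hn'P
  -- lifting elements of `B`
  have toPK : ∀ z ∈ D.borelSubgroup F, ∃ z' : ↥PK, ((z' : ↥(D.group F)) : GL D.Idx F) = z ∧ z' ∈ P'.B := by
    intro z hz
    have h1 : (⟨z, hBG hz⟩ : ↥(D.group F)) ∈ P.B := by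
      rw [hB]; exact hz
    exact ⟨⟨⟨z, hBG hz⟩, Cfsg.Agent.Helper69.UnipSB.B_le_parabolic P _ h1⟩, rfl, h1⟩
  have memB : ∀ z : ↥PK, z ∈ P'.B ↔ ((z : ↥(D.group F)) : GL D.Idx F) ∈ D.borelSubgroup F := by
    intro z
    have : z ∈ P'.B ↔ (z : ↥(D.group F)) ∈ P.B := Iff.rfl
    rw [this, hB]
    rfl
  -- the descents
  have hdesc : ∀ i ∈ Kn, i < D.rank →
      ¬ ∀ t : F, m * xGL D F (D.simple i) t * m⁻¹ ∈ D.borelSubgroup F := by
    intro i hiK hi hall
    have hp := simple_lt D hs i hi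
    have hsG : (⟨npGL D F i, hNG (nGL_mem_monomialSubgroup D hD _ hp)⟩ : ↥(D.group F)) ∈
        gensOf D F Kn := ⟨i, hiK, hi, nWordGL_val D hD _ _⟩
    let s' : P'.S := ⟨⟨⟨npGL D F i, hNG (nGL_mem_monomialSubgroup D hD _ hp)⟩,
      Cfsg.Agent.Helper69.UnipSB.closure_le_parabolic P _ (Subgroup.subset_closure hsG)⟩, hsG⟩
    have hlt := sign_gen P' n'⁻¹ (P'.N.inv_mem hn') s' (by
      intro b hb
      have hb' := (memB b).mp hb
      obtain ⟨y, hy, x, hx, hyx⟩ := decomp_borel D hD h45 i hi _ hb'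
      obtain ⟨t, rfl⟩ := (mem_rootSubgroup_iff D hD _ hp x).mp hx
      have hyB : y ∈ D.borelSubgroup F :=
        (sup_le ((Up_le_posUnipotent D i).trans le_sup_left) le_sup_right) hy
      have hxB : xGL D F (D.simple i) t ∈ D.borelSubgroup F :=
        le_sup_left (a := D.posUnipotent F) (rootSubgroup_le_posUnipotent D hD _
          ((isPosRoot_iff D _ hpos _).mpr ⟨simple_pos D hD i hi, hp⟩) (xGL_mem_rootSubgroup D hD _ _))
      obtain ⟨y', hy'1, hy'2⟩ := toPK y hyB
      obtain ⟨x', hx'1, hx'2⟩ := toPK _ hxB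
      refine ⟨y', x', ?_, ?_, ?_⟩
      · apply Subtype.ext
        apply Subtype.ext
        simp only [Subgroup.coe_mul]
        rw [hy'1, hx'1]
        exact hyx
      · rw [memB]
        simp only [Subgroup.coe_mul, Subgroup.coe_inv]
        rw [hy'1]
        have := (Subgroup.mem_normalizer_iff.mp (npGL_mem_normalizer D hD h45 i hi) y).mp hy
        exact (sup_le ((Up_le_posUnipotent D i).trans le_sup_left) le_sup_right) this
      · rw [memB]
        simp only [Subgroup.coe_mul, Subgroup.coe_inv]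
        rw [hx'1]
        exact hall t)
    have e1 : mkW P' n'⁻¹ (P'.N.inv_mem hn') = (mkW P' n' hn')⁻¹ := rfl
    rw [e1, wl_inv' hE] at hlt
    have e2 : (mkW P' n' hn')⁻¹ * wf P' s' = (wf P' s' * mkW P' n' hn')⁻¹ := by
      rw [mul_inv_rev, inv_gen hE]
    rw [e2, wl_inv' hE] at hlt
    exact absurd (hmaxL s') (not_lt.mpr hlt.le)
  have hneg := fun r t hr hrK => conj_pos_mem_neg D hD m hmN Kn hdesc r t hr hrK
  have hint := conj_mem_borel_iff D hD Kn m hmN hmP hneg
  refine ⟨n', hn', hw', ?_⟩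
  intro u hu
  have hu' := (memB u).mp hu
  rw [memB, mem_lift2, ← hint _ hu']
  simp only [Subgroup.coe_mul, Subgroup.coe_inv]
  rw [hm, inv_inv]

include hD hB hN hS h45 in
/-- the identity `Σ_J (-1)^|J| [P_K : P_J] · #unip(P_J) = |U|` in the parabolic subgroup `P_K` -/
theorem chev_identity (Kn : Set ℕ)
    [Fintype (subBN P (gensOf D F Kn) (gensOf_subset D P hS Kn)).S] :
    ∑ J ∈ (Finset.univ : Finset (subBN P (gensOf D F Kn) (gensOf_subset D P hS Kn)).S).powerset,
      (-1 : ℂ) ^ J.card *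
      ((((subBN P (gensOf D F Kn) (gensOf_subset D P hS Kn)).parabolic
          (Subtype.val '' (↑J : Set (subBN P (gensOf D F Kn) (gensOf_subset D P hS Kn)).S))).index : ℂ) *
        (Nat.card {d : ↥((subBN P (gensOf D F Kn) (gensOf_subset D P hS Kn)).parabolic
          (Subtype.val '' (↑J : Set (subBN P (gensOf D F Kn) (gensOf_subset D P hS Kn)).S))) //
            IsPElt p (d : ↥(P.parabolic (gensOf D F Kn)))} : ℂ)) =
      (Fintype.card F : ℂ) ^ (D.nroots / 2) := by
  obtain ⟨n₀, hn₀, hmax, hB₀⟩ := exists_rel_longest D hD P hB hN hS h45 Kn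
  have hK := gensOf_subset D P hS Kn
  have hPKeq := parabolic_gensOf D hD P hB Kn
  obtain ⟨hBG, hNG, -⟩ := Cfsg.Agent.S1043.result (F := F) D hD
  obtain ⟨hnormK, -, -⟩ := Cfsg.Agent.S1048.result (F := F) D hD Kn
  have hUB : D.posUnipotent F ≤ D.borelSubgroup F := le_sup_left
  have hRU : D.unipotentRadical F Kn ≤ D.posUnipotent F := by
    unfold ChevalleyDatum.unipotentRadical ChevalleyDatum.posUnipotent
    apply Subgroup.closure_mono
    rintro g ⟨r, t, hr, -, hg⟩
    exact ⟨r, t, hr, hg⟩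
  -- elements of `B` lie in `P_K`
  have hYB : ∀ x ∈ D.borelSubgroup F, ∃ hx : x ∈ D.group F,
      (⟨x, hx⟩ : ↥(D.group F)) ∈ P.parabolic (gensOf D F Kn) := by
    intro x hx
    refine ⟨hBG hx, Cfsg.Agent.Helper69.UnipSB.B_le_parabolic P _ ?_⟩
    rw [hB]; exact hx
  have hP'B : (subBN P (gensOf D F Kn) hK).B =
      lift2 D (P.parabolic (gensOf D F Kn)) (D.borelSubgroup F) := by
    show P.B.subgroupOf _ = _
    rw [hB]
    rfl
  have hB₀' : ∀ u ∈ (subBN P (gensOf D F Kn) hK).B,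
      n₀⁻¹ * u * n₀ ∈ (subBN P (gensOf D F Kn) hK).B ↔
        u ∈ lift2 D (P.parabolic (gensOf D F Kn))
          (D.unipotentRadical F Kn ⊔ D.diagonalSubgroup F) := hB₀
  have key := full_identity (subBN P (gensOf D F Kn) hK) p
    (lift2 D _ (D.posUnipotent F)) (lift2 D _ (D.unipotentRadical F Kn))
    (lift2 D _ (D.unipotentRadical F Kn ⊔ D.diagonalSubgroup F))
    (by rw [hP'B]; exact lift2_mono D hUB)
    (isPGroup_lift2_pos D hD p _)
    (by
      intro b hb hbp
      rw [hP'B] at hb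
      exact mem_pos_of_isPElt D hD p _ hb ((isPElt_incl D _ b).mpr hbp))
    (lift2_mono D hRU)
    (by
      constructor
      intro n hn g
      rw [mem_lift2] at hn ⊢
      have hg : ((g : ↥(D.group F)) : GL D.Idx F) ∈ D.parabolicSubgroup F Kn := by
        have h1 : (g : ↥(D.group F)) ∈ P.parabolic (gensOf D F Kn) := g.2
        have h2 : (g : ↥(D.group F)) ∈ (D.parabolicSubgroup F Kn).subgroupOf (D.group F) := hPKeq ▸ h1
        exact h2
      have := (Subgroup.mem_normalizer_iff.mp (hnormK hg) _).mp hn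
      simpa using this)
    n₀ hn₀ hmax hB₀'
    (by
      intro u hu
      rw [mem_lift2, mem_lift2]
      constructor
      · exact mem_radical_of_mem_sup D hD Kn _ hu
      · intro h; exact Subgroup.mem_sup_left h)
    (by
      have hle : (D.posUnipotent F).subgroupOf (D.group F) ≤ P.parabolic (gensOf D F Kn) := by
        intro x hx
        refine Cfsg.Agent.Helper69.UnipSB.B_le_parabolic P _ ?_
        rw [hB]; exact hUB hx
      have h1 := Subgroup.relIndex_mul_index hle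
      have h2 := not_dvd_index_posUnipotent (F := F) p D hD
      intro hdvd
      apply h2
      rw [← h1]
      exact Dvd.dvd.mul_right hdvd _)
    (by
      rw [hP'B, relIndex_lift2 D _ _ _ hYB, card_lift2 D (fun x hx => hYB x (hUB hx)),
        card_lift2 D (fun x hx => hYB x (hUB (hRU hx)))]
      exact card_pos_eq_index_mul D hD Kn)
  rw [key, card_lift2 D (fun x hx => hYB x (hUB hx)), Cfsg.Agent.S1027.result D hD]
  push_cast
  rfl

end ChevK

end Cfsg.Agent.Helper19.Unip
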