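import Cfsg.Agent.Helper19.Unip.ChevK
import Cfsg.Agent.Helper67.UnipU2
import Cfsg.Agent.S2327

/-!
# The number of unipotent elements of a Chevalley group: transport and Möbius inversion
-/

set_option autoImplicit false
set_option maxRecDepth 100000

namespace Cfsg.Agent.Helper19.Unip

open Cfsg Cfsg.Lie Cfsg.Agent.Helper6 Cfsg.Agent.Helper18 Cfsg.Agent.Helper19.Cox
  Cfsg.Agent.Helper19.Poinc Cfsg.Agent.Helper19.Stein Cfsg.Agent.Helper69.UnipSB DoubleCoset

section Transport

variable {F : Type*} [Field F] (D : ChevalleyDatum)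
  (hD : D ∈ [chevG2, chevB2, chevD4, chevF4, chevE6, chevE7, chevE8])

/-- the set of indices of a finite set of nodes -/
def Kn (K : Finset (Fin D.rank)) : Set ℕ := {j | ∃ h : j < D.rank, (⟨j, h⟩ : Fin D.rank) ∈ K}

include hD in
/-- the `i`-th distinguished generator, as an element of the group -/
theorem npGL_mem_group (i : Fin D.rank) : npGL D F i.val ∈ D.group F :=
  (Cfsg.Agent.S1043.result (F := F) D hD).2.1
    (nGL_mem_monomialSubgroup D hD _ (simple_lt D (simpleOK_of_mem D hD) i.val i.2))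

/-- the `i`-th distinguished generator -/
noncomputable def genG (i : Fin D.rank) : ↥(D.group F) := ⟨npGL D F i.val, npGL_mem_group D hD i⟩

theorem genG_mem_gensOf (K : Finset (Fin D.rank)) (i : Fin D.rank) (hi : i ∈ K) :
    genG D hD i ∈ gensOf D F (Kn D K) :=
  ⟨i.val, ⟨i.2, hi⟩, i.2, nWordGL_val D hD _ _⟩

theorem gensOf_Kn (K : Finset (Fin D.rank)) :
    gensOf D F (Kn D K) = (fun i => genG (F := F) D hD i) '' (↑K : Set (Fin D.rank)) := by
  ext g
  constructor
  · rintro ⟨j, ⟨hj, hjK⟩, -, hg⟩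
    refine ⟨⟨j, hj⟩, hjK, ?_⟩
    apply Subtype.ext
    exact (nG_unique D hD j _ hg).symm
  · rintro ⟨i, hi, rfl⟩
    exact genG_mem_gensOf D hD K i hi

variable (P : Cfsg.BNPair ↥(D.group F))
  (hS : P.S = {n : ↥(D.group F) | ∃ i < D.rank,
    ((n : GL D.Idx F) : Matrix D.Idx D.Idx F) = D.nMat F (D.simple i) 1})

include P hS in
theorem genG_injective : Function.Injective (genG (F := F) D hD) := by
  intro i j h
  apply (genS_bijective D hD P hS).1
  apply Subtype.ext
  exact h

/-- the generators of the (B,N)-pair of `P_K` -/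
noncomputable def genK (K : Finset (Fin D.rank)) (x : {x // x ∈ K}) :
    (subBN P (gensOf D F (Kn D K)) (gensOf_subset D P hS _)).S :=
  ⟨⟨genG D hD x.1, Cfsg.Agent.Helper69.UnipSB.closure_le_parabolic P _
    (Subgroup.subset_closure (genG_mem_gensOf D hD K x.1 x.2))⟩, genG_mem_gensOf D hD K x.1 x.2⟩

theorem genK_val (K : Finset (Fin D.rank)) (x : {x // x ∈ K}) :
    (((genK D hD P hS K x).1 : ↥(P.parabolic (gensOf D F (Kn D K)))) : ↥(D.group F)) = genG D hD x.1 := rfl

theorem genK_bijective (K : Finset (Fin D.rank)) : Function.Bijective (genK D hD P hS K) := by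
  constructor
  · intro x y h
    have h1 : genG (F := F) D hD x.1 = genG D hD y.1 := by
      rw [← genK_val D hD P hS K x, ← genK_val D hD P hS K y, h]
    exact Subtype.ext (genG_injective D hD P hS h1)
  · intro s
    have h1 : ((s.1 : ↥(P.parabolic (gensOf D F (Kn D K)))) : ↥(D.group F)) ∈ gensOf D F (Kn D K) := s.2
    have h2 : ((s.1 : ↥(P.parabolic (gensOf D F (Kn D K)))) : ↥(D.group F)) ∈
        (fun i => genG (F := F) D hD i) '' (↑K : Set (Fin D.rank)) := by
      have h3 := gensOf_Kn (F := F) D hD K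
      exact (Set.ext_iff.mp h3 _).mp h1
    obtain ⟨i, hi, hs⟩ := h2
    refine ⟨⟨i, hi⟩, ?_⟩
    apply Subtype.ext
    apply Subtype.ext
    exact hs

/-- the generators of the (B,N)-pair of `P_K` are indexed by `K` -/
noncomputable def equivK (K : Finset (Fin D.rank)) :
    {x // x ∈ K} ≃ (subBN P (gensOf D F (Kn D K)) (gensOf_subset D P hS _)).S :=
  Equiv.ofBijective _ (genK_bijective D hD P hS K)

theorem image_equivK (K : Finset (Fin D.rank)) (J : Finset {x // x ∈ K}) :
    Subtype.val '' (Subtype.val '' ((↑(J.map (equivK D hD P hS K).toEmbedding) :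
      Set (subBN P (gensOf D F (Kn D K)) (gensOf_subset D P hS _)).S))) =
      gensOf D F (Kn D (J.map (Function.Embedding.subtype _))) := by
  refine Eq.trans ?_ (gensOf_Kn (F := F) D hD _).symm
  ext g
  constructor
  · rintro ⟨y, ⟨s, hs, rfl⟩, rfl⟩
    rw [Finset.mem_coe, Finset.mem_map] at hs
    obtain ⟨x, hx, rfl⟩ := hs
    refine ⟨x.1, ?_, rfl⟩
    rw [Finset.mem_coe, Finset.mem_map]
    exact ⟨x, hx, rfl⟩
  · rintro ⟨i, hi, rfl⟩
    rw [Finset.mem_coe, Finset.mem_map] at hi
    obtain ⟨x, hx, rfl⟩ := hi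
    refine ⟨(genK D hD P hS K x).1, ⟨genK D hD P hS K x, ?_, rfl⟩, rfl⟩
    rw [Finset.mem_coe, Finset.mem_map]
    exact ⟨x, hx, rfl⟩

end Transport

section Dagger

/-- the number of `p`-elements of a subgroup -/
noncomputable def up (p : ℕ) {G : Type*} [Group G] (X : Subgroup G) : ℕ :=
  Nat.card {d : X // IsPElt p (d : G)}

theorem up_subgroupOf (p : ℕ) {G : Type*} [Group G] {X Y : Subgroup G} (h : X ≤ Y) :
    Nat.card {d : ↥(X.subgroupOf Y) // IsPElt p (d : ↥Y)} = up p X := by
  unfold up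
  refine Nat.card_congr
    { toFun := fun d => ⟨⟨((d.1 : ↥Y) : G), d.1.2⟩, by
        obtain ⟨k, hk⟩ := d.2
        refine ⟨k, ?_⟩
        show orderOf (((d.1 : ↥Y) : G)) = p ^ k
        rw [← hk, Subgroup.orderOf_coe]⟩
      invFun := fun d => ⟨⟨⟨d.1.1, h d.1.2⟩, d.1.2⟩, by
        obtain ⟨k, hk⟩ := d.2
        refine ⟨k, ?_⟩
        show orderOf (⟨d.1.1, h d.1.2⟩ : ↥Y) = p ^ k
        rw [← hk, ← Subgroup.orderOf_coe]⟩
      left_inv := fun d => rfl
      right_inv := fun d => rfl }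

theorem index_subgroupOf_cast {G : Type*} [Group G] [Finite G] {X Y : Subgroup G} (h : X ≤ Y) :
    ((X.subgroupOf Y).index : ℂ) = (Nat.card Y : ℂ) / (Nat.card X : ℂ) := by
  have h1 := Subgroup.index_mul_card (X.subgroupOf Y)
  rw [Nat.card_congr (Subgroup.subgroupOfEquivOfLe h).toEquiv] at h1
  have h2 : (Nat.card X : ℂ) ≠ 0 := by
    have : 0 < Nat.card X := Nat.card_pos
    exact_mod_cast this.ne'
  rw [eq_div_iff h2]
  exact_mod_cast h1

variable {F : Type*} [Field F] [Fintype F] (p : ℕ) [Fact p.Prime] [CharP F p] (D : ChevalleyDatum)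
  (hD : D ∈ [chevG2, chevB2, chevD4, chevF4, chevE6, chevE7, chevE8])
  (P : Cfsg.BNPair ↥(D.group F))
  (hB : P.B = (D.borelSubgroup F).subgroupOf (D.group F))
  (hN : P.N = (D.monomialSubgroup F).subgroupOf (D.group F))
  (hS : P.S = {n : ↥(D.group F) | ∃ i < D.rank,
    ((n : GL D.Idx F) : Matrix D.Idx D.Idx F) = D.nMat F (D.simple i) 1})
  (h45 : H45 D F)

theorem Kn_mono {J K : Finset (Fin D.rank)} (h : J ⊆ K) : Kn D J ⊆ Kn D K :=
  fun _ ⟨hj, hjJ⟩ => ⟨hj, h hjJ⟩

omit [Fintype F] in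
theorem gensOf_mono {A B : Set ℕ} (h : A ⊆ B) : gensOf D F A ⊆ gensOf D F B :=
  fun _ ⟨j, hj, hj', hg⟩ => ⟨j, h hj, hj', hg⟩

include hD hB hN hS h45 in
/-- the identity `Σ_{J ⊆ K} (-1)^|J| [P_K : P_J] · #unip(P_J) = |U|` -/
theorem dagger (K : Finset (Fin D.rank)) :
    ∑ J ∈ K.powerset, (-1 : ℂ) ^ J.card *
      (((Nat.card (P.parabolic (gensOf D F (Kn D K))) : ℂ) /
          (Nat.card (P.parabolic (gensOf D F (Kn D J))) : ℂ)) *
        (up p (P.parabolic (gensOf D F (Kn D J))) : ℂ)) =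
      (Fintype.card F : ℂ) ^ (D.nroots / 2) := by
  classical
  have : Fintype (subBN P (gensOf D F (Kn D K)) (gensOf_subset D P hS _)).S :=
    Fintype.ofEquiv _ (equivK D hD P hS K)
  rw [← chev_identity D hD P hB hN hS p h45 (Kn D K)]
  rw [Cfsg.Agent.Helper50.UnipU345.sum_powerset_subtype K]
  rw [← Cfsg.Agent.Helper50.UnipU345.sum_powerset_equiv (equivK D hD P hS K)]
  apply Finset.sum_congr rfl
  intro J'' _
  rw [Finset.card_map, Finset.card_map]
  congr 1
  have hle : P.parabolic (gensOf D F (Kn D (J''.map (Function.Embedding.subtype _)))) ≤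
      P.parabolic (gensOf D F (Kn D K)) := by
    apply sup_le_sup_left
    apply Subgroup.closure_mono
    apply gensOf_mono
    apply Kn_mono
    intro x hx
    obtain ⟨y, _, rfl⟩ := Finset.mem_map.mp hx
    exact y.2
  rw [subBN_parabolic, image_equivK, index_subgroupOf_cast hle, up_subgroupOf p hle]

include hS in
omit [Fintype F] in
theorem gensOf_univ : gensOf D F (Kn D (Finset.univ : Finset (Fin D.rank))) = P.S := by
  rw [hS]
  ext g
  constructor
  · rintro ⟨j, -, hj, hg⟩
    exact ⟨j, hj, hg⟩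
  · rintro ⟨j, hj, hg⟩
    exact ⟨j, ⟨hj, Finset.mem_univ _⟩, hj, hg⟩

include hS in
omit [Fintype F] in
theorem parabolic_univ : P.parabolic (gensOf D F (Kn D (Finset.univ : Finset (Fin D.rank)))) = ⊤ := by
  rw [gensOf_univ D P hS]
  unfold Cfsg.BNPair.parabolic
  rw [eq_top_iff, ← P.sup_eq_top]
  apply sup_le le_sup_left
  rw [← P.closure_sup]
  apply sup_le le_sup_right
  exact inf_le_left.trans le_sup_left

include hD hB in
omit [Fintype F] in
/-- the parabolic subgroups of the Prelude are those of the (B,N)-pair -/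
theorem parabolicIn_eq' (J : Finset ℕ) :
    D.parabolicIn F J =
      P.parabolic (gensOf D F (Kn D (Finset.univ.filter (fun a : Fin D.rank => (a : ℕ) ∈ J)))) := by
  unfold ChevalleyDatum.parabolicIn
  rw [← parabolic_gensOf D hD P hB]
  congr 1
  ext g
  constructor
  · rintro ⟨j, hjJ, hj, hg⟩
    refine ⟨j, ⟨hj, ?_⟩, hj, hg⟩
    simpa using hjJ
  · rintro ⟨j, ⟨hj, hjJ⟩, -, hg⟩
    refine ⟨j, ?_, hj, hg⟩
    simpa using hjJ

include hD hB in
/-- the degree of the Steinberg character -/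
theorem degree_sum :
    ∑ J ∈ (Finset.univ : Finset (Fin D.rank)).powerset, (-1 : ℂ) ^ J.card *
      ((P.parabolic (gensOf D F (Kn D J))).index : ℂ) = (Fintype.card F : ℂ) ^ (D.nroots / 2) := by
  classical
  rw [← Cfsg.Agent.S2327.result D hD]
  unfold ChevalleyDatum.steinbergCharacter
  rw [← Cfsg.Agent.Helper55.SteinX3a.sum_powerset_reindex D.rank (Equiv.refl (Fin D.rank))
    (fun J' => ((P.parabolic (gensOf D F (Kn D J'))).index : ℂ))]
  apply Finset.sum_congr rfl
  intro J _
  rw [fixedPointCharacter_one, parabolicIn_eq' D hD P hB J]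
  rfl

include hD hB hN hS h45 in
/-- Steinberg: the number of elements of `p`-power order is `q^(2N)` -/
theorem card_pElts :
    Nat.card {g : ↥(D.group F) // ∃ k : ℕ, orderOf g = p ^ k} =
      Fintype.card F ^ (2 * (D.nroots / 2)) := by
  classical
  set q : ℂ := (Fintype.card F : ℂ) ^ (D.nroots / 2) with hq
  set PK : Finset (Fin D.rank) → Subgroup ↥(D.group F) :=
    fun K => P.parabolic (gensOf D F (Kn D K)) with hPK
  have hcard : ∀ K, (Nat.card (PK K) : ℂ) ≠ 0 := by
    intro K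
    have : 0 < Nat.card (PK K) := Nat.card_pos
    exact_mod_cast this.ne'
  have hM := Cfsg.Agent.Helper67.UnipU2.moebius_powerset
    (fun K => (up p (PK K) : ℂ) / (Nat.card (PK K) : ℂ))
    (fun K => q / (Nat.card (PK K) : ℂ)) (by
      intro K
      have h1 : ∑ J ∈ K.powerset, (-1 : ℂ) ^ J.card *
          (((Nat.card (PK K) : ℂ) / (Nat.card (PK J) : ℂ)) * (up p (PK J) : ℂ)) = q :=
        dagger p D hD P hB hN hS h45 K
      rw [eq_div_iff (hcard K), Finset.sum_mul, ← h1]
      apply Finset.sum_congr rfl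
      intro J _
      have := hcard J
      field_simp) Finset.univ
  have htop : PK Finset.univ = ⊤ := parabolic_univ D P hS
  have hG : (Nat.card (PK Finset.univ) : ℂ) = (Nat.card ↥(D.group F) : ℂ) := by
    rw [htop, Nat.card_congr (Subgroup.topEquiv (G := ↥(D.group F))).toEquiv]
  have hdeg := degree_sum D hD P hB
  -- the right hand side
  have hR : ∑ J ∈ (Finset.univ : Finset (Fin D.rank)).powerset, (-1 : ℂ) ^ J.card *
      (q / (Nat.card (PK J) : ℂ)) = q * q / (Nat.card ↥(D.group F) : ℂ) := by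
    have hGne : (Nat.card ↥(D.group F) : ℂ) ≠ 0 := by
      have : 0 < Nat.card ↥(D.group F) := Nat.card_pos
      exact_mod_cast this.ne'
    rw [eq_div_iff hGne, Finset.sum_mul]
    have h2 : q * q = q * ∑ J ∈ (Finset.univ : Finset (Fin D.rank)).powerset, (-1 : ℂ) ^ J.card *
        ((PK J).index : ℂ) := by rw [hdeg]
    rw [h2, Finset.mul_sum]
    apply Finset.sum_congr rfl
    intro J _
    have h3 := Subgroup.index_mul_card (PK J)
    have h4 : ((PK J).index : ℂ) * (Nat.card (PK J) : ℂ) = (Nat.card ↥(D.group F) : ℂ) := by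
      exact_mod_cast h3
    have := hcard J
    rw [← h4]
    field_simp
  rw [hR, hG] at hM
  have hGne : (Nat.card ↥(D.group F) : ℂ) ≠ 0 := by
    have : 0 < Nat.card ↥(D.group F) := Nat.card_pos
    exact_mod_cast this.ne'
  have hfin : (up p (PK Finset.univ) : ℂ) = q * q := by
    field_simp at hM
    rw [hM]; ring
  -- back to the statement
  have hup : up p (PK Finset.univ) = Nat.card {g : ↥(D.group F) // ∃ k : ℕ, orderOf g = p ^ k} := by
    unfold up
    rw [htop]
    exact Nat.card_congr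
      { toFun := fun d => ⟨d.1.1, d.2⟩
        invFun := fun g => ⟨⟨g.1, Subgroup.mem_top _⟩, g.2⟩
        left_inv := fun d => rfl
        right_inv := fun g => rfl }
  rw [← hup]
  have : ((up p (PK Finset.univ) : ℕ) : ℂ) = ((Fintype.card F ^ (2 * (D.nroots / 2)) : ℕ) : ℂ) := by
    rw [hfin, hq]
    push_cast
    ring
  exact_mod_cast this

end Dagger

end Cfsg.Agent.Helper19.Unip
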