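import Cfsg.Agent.Helper19.Stein.ChevStein

/-!
# Generic (B,N)-pair lemmas for the count of unipotent elements

* `alt_sum_fixedBy_eq`: the alternating sum of the permutation characters on the cosets of the
  standard parabolic subgroups, restricted to `B`, is the permutation character of `B` on the
  big cell.
* `sign_gen`: the sign criterion, for an arbitrary (B,N)-pair.
-/

set_option autoImplicit false

namespace Cfsg.Agent.Helper19.Unip

open Cfsg Cfsg.Agent.Helper6 Cfsg.Agent.Helper19.Cox Cfsg.Agent.Helper19.Poinc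
  Cfsg.Agent.Helper19.Stein DoubleCoset

variable {G : Type*} [Group G] (P : Cfsg.BNPair G)

/-- restricted to `B`, the alternating sum of the parabolic permutation characters is the
permutation character of `B` on `B / (B ∩ n₀ B n₀⁻¹)` -/
theorem alt_sum_fixedBy_eq [Finite G] [Fintype P.S]
    (n₀ : G) (hn₀ : n₀ ∈ P.N) (hmax : MaxR (wf P) (mkW P n₀ hn₀)) (H₀ : Subgroup G)
    (hH : ∀ u ∈ P.B, n₀⁻¹ * u * n₀ ∈ P.B ↔ u ∈ H₀) (b : P.B) :
    ∑ J ∈ (Finset.univ : Finset P.S).powerset, (-1 : ℂ) ^ J.card *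
        (Nat.card (MulAction.fixedBy (G ⧸ P.parabolic (Subtype.val '' (↑J : Set P.S))) (b : G)) : ℂ) =
      (Nat.card (MulAction.fixedBy (↥P.B ⧸ H₀.subgroupOf P.B) b) : ℂ) := by
  rw [Cfsg.Agent.Helper76.SteinX2b.alternating_sum_fixedBy P b.2,
    ← Cfsg.Agent.Helper55.SteinX3b.card_fixedBy_orbit P.B _ n₀ hH b]
  congr 1
  apply Nat.card_congr
  apply Equiv.subtypeEquivRight
  intro x
  rw [maxR_iff P n₀ hn₀ hmax x]

/-- the sign criterion: if `B = (B ∩ s⁻¹ B s) X` with `m X m⁻¹ ⊆ B` then `ℓ(w s) > ℓ(w)` -/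
theorem sign_gen (m : G) (hm : m ∈ P.N) (s : P.S)
    (hdec : ∀ b ∈ P.B, ∃ y x : G, b = y * x ∧ s.1 * y * s.1⁻¹ ∈ P.B ∧ m * x * m⁻¹ ∈ P.B) :
    wl (wf P) (mkW P m hm) < wl (wf P) (mkW P m hm * wf P s) := by
  have hE := exchData_wf P
  have key : ∀ g ∈ dc P m⁻¹, s.1 * g ∈ dc P (s.1 * m⁻¹) := by
    intro g hg
    rw [mem_dc] at hg ⊢
    obtain ⟨b₁, hb₁, b₂, hb₂, rfl⟩ := hg
    obtain ⟨y, x, hyx, hy, hx⟩ := hdec b₁ hb₁
    refine ⟨s.1 * y * s.1⁻¹, hy, m * x * m⁻¹ * b₂, P.B.mul_mem hx hb₂, ?_⟩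
    rw [hyx]
    group
  have hlen := (len_lt_iff (P := P) (le_refl _) (expr_of_mem_N (P.N.inv_mem hm)) s.2).2 key
  have e1 : wl (wf P) (mkW P m hm) = len P P.S m⁻¹ := by
    rw [← wl_inv' hE]
    exact wl_mkW P (P.N.inv_mem hm)
  have e2 : wl (wf P) (mkW P m hm * wf P s) = len P P.S (s.1 * m⁻¹) := by
    rw [← wl_inv' hE, mul_inv_rev, inv_gen hE]
    exact wl_mkW P (P.N.mul_mem (P.subset s.2) (P.N.inv_mem hm))
  rw [e1, e2]
  exact hlen

end Cfsg.Agent.Helper19.Unip
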